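import Mathlib.LinearAlgebra.Matrix.Charpoly.Eigs
import Mathlib.RingTheory.IntegralClosure.IntegrallyClosed
import Mathlib.RingTheory.Ideal.GoingUp
import Mathlib.FieldTheory.IsAlgClosed.Basic
import Mathlib.RingTheory.Artinian.Module
import Mathlib.RingTheory.TensorProduct.Finite
import Mathlib.RingTheory.Adjoin.FG

/-!
# Determinants of a representation of a finite algebra, through its characters
-/

universe u

open Polynomial TensorProduct

noncomputable section

namespace GrothLib.FinModel8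

variable {R : Type u} [CommRing R] {B : Type u} [CommRing B] [Algebra R B] [Module.Finite R B]
  {L : Type u} [Field L] [IsAlgClosed L] [Algebra R L] {n : ℕ}

/-- Eigenvalues come from characters. -/
theorem exists_character (Φ : B →ₐ[R] Matrix (Fin n) (Fin n) L) (a : B) {μ : L}
    (hμ : μ ∈ (Φ a).charpoly.roots) : ∃ χ : B →ₐ[R] L, χ a = μ := by
  let Ψ : L ⊗[R] B →ₐ[L] Matrix (Fin n) (Fin n) L :=
    Algebra.TensorProduct.lift (Algebra.ofId L _) Φ fun x y => Algebra.commutes x (Φ y)
  let e : L ⊗[R] B := algebraMap L _ μ - (1 : L) ⊗ₜ[R] a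
  have hne : ¬IsUnit e := fun h => by
    have h1 := (Matrix.isUnit_iff_isUnit_det _).mp (h.map Ψ)
    have h2 : Ψ e = Matrix.scalar (Fin n) μ - Φ a := by
      simp only [e, map_sub, AlgHom.commutes, Ψ, Algebra.TensorProduct.lift_tmul,
        map_one, one_mul]
      rfl
    rw [h2, ← Matrix.eval_charpoly] at h1
    exact h1.ne_zero (isRoot_of_mem_roots hμ)
  obtain ⟨m, hm, hem⟩ := exists_max_ideal_of_mem_nonunits hne
  haveI : Module.Finite L (L ⊗[R] B) := inferInstance
  letI : Field ((L ⊗[R] B) ⧸ m) := Ideal.Quotient.field m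
  haveI : Algebra.IsIntegral L ((L ⊗[R] B) ⧸ m) := Algebra.IsIntegral.of_finite L _
  let ε : ((L ⊗[R] B) ⧸ m) ≃ₐ[L] L := (AlgEquiv.ofBijective (Algebra.ofId L _)
    (IsAlgClosed.algebraMap_bijective_of_isIntegral (k := L))).symm
  let χ' : L ⊗[R] B →ₐ[L] L := ε.toAlgHom.comp (Ideal.Quotient.mkₐ L m)
  refine ⟨(χ'.restrictScalars R).comp Algebra.TensorProduct.includeRight, ?_⟩
  have h0 : χ' e = 0 := by
    show ε (Ideal.Quotient.mk m e) = 0
    rw [Ideal.Quotient.eq_zero_iff_mem.mpr hem, map_zero]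
  simp only [e, map_sub, AlgHom.commutes] at h0
  exact (sub_eq_zero.mp h0).symm

/-- A determinant is a product of values of characters. -/
theorem exists_det_eq_prod (Φ : B →ₐ[R] Matrix (Fin n) (Fin n) L) (a : B) :
    ∃ s : Multiset (B →ₐ[R] L), Multiset.card s = n ∧ (Φ a).det = (s.map fun χ => χ a).prod := by
  choose χ hχ using fun μ : {μ // μ ∈ (Φ a).charpoly.roots} => exists_character Φ a μ.2
  refine ⟨(Φ a).charpoly.roots.attach.map χ, ?_, ?_⟩
  · rw [Multiset.card_map, Multiset.card_attach,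
      splits_iff_card_roots.mp (IsAlgClosed.splits _), Matrix.charpoly_natDegree_eq_dim, Fintype.card_fin]
  · rw [Matrix.det_eq_prod_roots_charpoly, Multiset.map_map]
    simp only [Function.comp_def, hχ, Multiset.attach_map_val]

variable (R B L) in
/-- The determinants of all representations take values in a finite algebra. -/
theorem exists_det_mem :
    ∃ T : Subalgebra R L, Module.Finite R T ∧
      ∀ (n : ℕ) (Φ : B →ₐ[R] Matrix (Fin n) (Fin n) L) (a : B), (Φ a).det ∈ T := by
  classical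
  obtain ⟨G, hG⟩ := Module.Finite.fg_top (R := R) (M := B)
  choose p hp hpa using fun b : B => Algebra.IsIntegral.isIntegral (R := R) b
  let rts : Set L := ⋃ b ∈ G, {μ | μ ∈ (p b).aroots L}
  have hrts : rts.Finite := G.finite_toSet.biUnion fun b _ => ((p b).aroots L).finite_toSet
  refine ⟨Algebra.adjoin R rts, ?_, fun n Φ a => ?_⟩
  · refine Module.Finite.iff_fg.mpr (fg_adjoin_of_finite hrts ?_)
    intro μ hμ
    obtain ⟨b, -, hb⟩ := Set.mem_iUnion₂.mp hμ
    exact ⟨p b, hp b, by rw [← aeval_def]; exact (mem_aroots'.mp hb).2⟩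
  · obtain ⟨s, -, hs⟩ := exists_det_eq_prod Φ a
    rw [hs]
    refine Subalgebra.multiset_prod_mem _ fun x hx => ?_
    obtain ⟨χ, -, rfl⟩ := Multiset.mem_map.mp hx
    have key : Submodule.span R (G : Set B) ≤ (Algebra.adjoin R rts).toSubmodule.comap χ.toLinearMap := by
      refine Submodule.span_le.mpr fun b hb => Algebra.subset_adjoin ?_
      refine Set.mem_iUnion₂.mpr ⟨b, hb, ?_⟩
      show χ b ∈ (p b).aroots L
      refine mem_aroots'.mpr ⟨((hp b).map _).ne_zero, ?_⟩
      rw [aeval_algHom_apply]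
      exact (congrArg χ (hpa b)).trans (map_zero χ)
    exact key (hG.symm ▸ Submodule.mem_top (x := a))

/-- If a power of a determinant is the value of a non-zero point, the argument does not vanish on some
prime over it. -/
theorem exists_prime_over_of_det {A : Type u} [CommRing A] [Algebra R A] [Algebra.IsIntegral R A]
    (ε : A →ₐ[R] L) (P : Ideal A) [P.IsPrime] (hεP : RingHom.ker ε ≤ P)
    (Φ : B →ₐ[R] Matrix (Fin n) (Fin n) L) (a : B) {k : ℕ} (hn : 0 < n) (hk : 0 < k) {s : A}
    (hs : s ∉ P) (he : ε s = (Φ a).det ^ k) :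
    ∃ Q : Ideal B, Q.IsPrime ∧ Q.comap (algebraMap R B) = P.comap (algebraMap R A) ∧ a ∉ Q := by
  let S := integralClosure R L
  let εS : A →ₐ[R] S := ε.codRestrict S fun x => (Algebra.IsIntegral.isIntegral x).map ε
  letI : Algebra A S := εS.toRingHom.toAlgebra
  haveI : IsScalarTower R A S := IsScalarTower.of_algebraMap_eq fun r => (εS.commutes r).symm
  haveI : Algebra.IsIntegral A S :=
    Algebra.IsIntegral.tower_top (R := R)
  have hker : (⊥ : Ideal S).comap (algebraMap A S) ≤ P := fun x hx => hεP <| by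
    rw [Ideal.mem_comap, Ideal.mem_bot] at hx
    exact congrArg (fun z : S => (z : L)) hx
  obtain ⟨𝔓, -, h𝔓, hover⟩ := Ideal.exists_ideal_over_prime_of_isIntegral P (⊥ : Ideal S) hker
  by_contra hno
  push Not at hno
  obtain ⟨ms, hcard, hdet⟩ := exists_det_eq_prod Φ a
  obtain ⟨χ, hχ⟩ : ∃ χ, χ ∈ ms := Multiset.card_pos_iff_exists_mem.mp (hcard ▸ hn)
  haveI : Algebra.IsIntegral R B := inferInstance
  let χS : ∀ _ : B →ₐ[R] L, B →ₐ[R] S := fun χ =>
    χ.codRestrict S fun x => (Algebra.IsIntegral.isIntegral x).map χ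
  have hq : (𝔓.comap (χS χ).toRingHom).comap (algebraMap R B) = P.comap (algebraMap R A) := by
    rw [← hover, Ideal.comap_comap, Ideal.comap_comap, ← IsScalarTower.algebraMap_eq R A S]
    congr 1
    exact (χS χ).comp_algebraMap
  haveI := h𝔓
  have ha : χS χ a ∈ 𝔓 := hno (𝔓.comap (χS χ).toRingHom) (Ideal.IsPrime.comap _) hq
  refine hs ?_
  rw [← hover, Ideal.mem_comap]
  have hval : algebraMap A S s = ((ms.map fun ψ => χS ψ a).prod) ^ k := by
    apply Subtype.ext
    show ε s = ((((ms.map fun ψ => χS ψ a).prod) ^ k : S) : L)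
    rw [he, hdet, SubmonoidClass.coe_pow, ← Subalgebra.coe_val, map_multiset_prod, Multiset.map_map]
    rfl
  rw [hval]
  refine Ideal.pow_mem_of_mem _ ?_ _ hk
  obtain ⟨t, ht⟩ := Multiset.exists_cons_of_mem (Multiset.mem_map_of_mem (fun ψ => χS ψ a) hχ)
  rw [ht, Multiset.prod_cons]
  exact 𝔓.mul_mem_right _ ha

end GrothLib.FinModel8
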