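import Groth.Agent.Lib.FinModel8.Glue
import Groth.Agent.Lib.NormAmple.Normal

/-!
# The algebra generated by the norms, inside the functions on the frame locus
-/

universe u

set_option backward.isDefEq.respectTransparency false

open AlgebraicGeometry CategoryTheory CategoryTheory.Limits TopologicalSpace Opposite
open GrothLib.Ample GrothLib.InvExt GrothLib.NormAmple

noncomputable section

namespace GrothLib.FinModel8

variable {X X' : Scheme.{u}} {g : X' ⟶ X} (σ : FrameSys g)

/-- The algebra generated by the norms. -/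
def algSub (U : X.Opens) : Subring Γ(X, U ⊓ frameOpen g) :=
  Subring.closure (Set.range (res (inf_le_left : U ⊓ frameOpen g ≤ U)) ∪ Set.range (σ.NF U))

theorem res_mem_algSub {U : X.Opens} (r : Γ(X, U)) :
    res (inf_le_left : U ⊓ frameOpen g ≤ U) r ∈ algSub σ U :=
  Subring.subset_closure (Or.inl ⟨r, rfl⟩)

theorem NF_mem_algSub {U : X.Opens} (a : Γ(X', g ⁻¹ᵁ U)) : σ.NF U a ∈ algSub σ U :=
  Subring.subset_closure (Or.inr ⟨a, rfl⟩)

theorem res_algSub {U V : X.Opens} (h : V ≤ U) {x : Γ(X, U ⊓ frameOpen g)} (hx : x ∈ algSub σ U) :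
    res (inf_le_inf_right _ h) x ∈ algSub σ V := by
  refine (Subring.closure_le (t := (algSub σ V).comap (res (inf_le_inf_right _ h)))).mpr ?_ hx
  rintro _ (⟨r, rfl⟩ | ⟨a, rfl⟩) <;> rw [SetLike.mem_coe, Subring.mem_comap]
  · rw [res_res, ← res_res h (inf_le_left : V ⊓ frameOpen g ≤ V) r]
    exact res_mem_algSub σ _
  · rw [σ.res_NF h]
    exact NF_mem_algSub σ _

/-- Restriction of the algebra. -/
def resA {U V : X.Opens} (h : V ≤ U) : algSub σ U →+* algSub σ V :=
  RingHom.codRestrict ((res (inf_le_inf_right (frameOpen g) h)).comp (algSub σ U).subtype) (algSub σ V)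
    fun x => res_algSub σ h x.2

theorem coe_resA {U V : X.Opens} (h : V ≤ U) (x : algSub σ U) :
    (resA σ h x : Γ(X, V ⊓ frameOpen g)) = res (inf_le_inf_right _ h) (x : Γ(X, U ⊓ frameOpen g)) := rfl

/-- The algebra on the affine opens. -/
def diag : X.AffineZariskiSiteᵒᵖ ⥤ CommRingCat.{u} where
  obj U := CommRingCat.of (algSub σ U.unop.1)
  map {U V} i := CommRingCat.ofHom (resA σ (leOfHom ((GrothLib.RelSpec.aff X).map i.unop)))
  map_id U := CommRingCat.hom_ext (RingHom.ext fun x => Subtype.ext (res_self _ _))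
  map_comp i j := CommRingCat.hom_ext (RingHom.ext fun x => Subtype.ext (res_res _ _ _).symm)

/-- The structure map. -/
def diagMap : (GrothLib.RelSpec.aff X).op ⋙ X.presheaf ⟶ diag σ where
  app U := CommRingCat.ofHom
    (RingHom.codRestrict (res (inf_le_left : U.unop.1 ⊓ frameOpen g ≤ _)) (algSub σ U.unop.1) (res_mem_algSub σ))
  naturality {U V} i := CommRingCat.hom_ext (RingHom.ext fun x => Subtype.ext (by
    refine (res_res (leOfHom ((GrothLib.RelSpec.aff X).map i.unop)) _ x).trans ?_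
    exact (res_res inf_le_left _ x).symm))

theorem coequifibered_diagMap [IsReduced X] [IsAffineHom g] : (diagMap σ).Coequifibered := by
  refine Scheme.AffineZariskiSite.coequifibered_iff_forall_isLocalizationAway.mpr fun U r => ?_
  let D := X.basicOpen r
  have hDU : D ≤ U.1 := X.basicOpen_le r
  letI : Algebra (algSub σ U.1) (algSub σ D) :=
    ((diag σ).map (homOfLE (U.basicOpen_le r)).op).hom.toAlgebra
  have halg : ∀ x : algSub σ U.1, ((algebraMap (algSub σ U.1) (algSub σ D) x : algSub σ D) : Γ(X, D ⊓ frameOpen g))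
      = res (inf_le_inf_right _ hDU) (x : Γ(X, U.1 ⊓ frameOpen g)) := fun x => rfl
  let r' : algSub σ U.1 := ⟨res inf_le_left r, res_mem_algSub σ r⟩
  change IsLocalization (Submonoid.powers r') (algSub σ D)
  haveI hU : IsLocalization.Away r Γ(X, D) := U.2.isLocalization_basicOpen r
  have hrD : IsUnit (res hDU r) := isUnit_res_of_le r hDU le_rfl
  have hV : IsAffineOpen (g ⁻¹ᵁ U.1) := U.2.preimage g
  refine ⟨?_, ?_, ?_⟩
  · rintro ⟨_, m, rfl⟩
    rw [map_pow]
    refine IsUnit.pow m ?_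
    obtain ⟨v, hv⟩ := hrD
    refine IsUnit.of_mul_eq_one (⟨res inf_le_left (↑v⁻¹ : Γ(X, D)), res_mem_algSub σ _⟩ : algSub σ D)
      (Subtype.ext ?_)
    rw [Subring.coe_mul, halg]
    show res (inf_le_inf_right _ hDU) (res inf_le_left r) * res inf_le_left _ = 1
    rw [res_res, ← res_res hDU (inf_le_left : D ⊓ frameOpen g ≤ D) r, ← map_mul, ← hv, Units.mul_inv, map_one]
  · rintro ⟨b, hb⟩
    let S' : Subring Γ(X, D ⊓ frameOpen g) :=
      { carrier := {b | ∃ (k : ℕ) (a : algSub σ U.1), res (inf_le_inf_right _ hDU) (a : Γ(X, U.1 ⊓ frameOpen g)) =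
          b * res (inf_le_left.trans hDU) r ^ k}
        zero_mem' := ⟨0, 0, by simp⟩
        one_mem' := ⟨0, 1, by simp⟩
        add_mem' := by
          rintro b c ⟨k, a, ha⟩ ⟨l, a', ha'⟩
          refine ⟨k + l, a * r' ^ l + a' * r' ^ k, ?_⟩
          rw [Subring.coe_add, map_add, Subring.coe_mul, Subring.coe_mul, map_mul, map_mul, ha, ha',
            SubmonoidClass.coe_pow, SubmonoidClass.coe_pow, map_pow, map_pow, res_res]
          ring
        mul_mem' := by
          rintro b c ⟨k, a, ha⟩ ⟨l, a', ha'⟩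
          refine ⟨k + l, a * a', ?_⟩
          rw [Subring.coe_mul, map_mul, ha, ha']
          ring
        neg_mem' := by
          rintro b ⟨k, a, ha⟩
          exact ⟨k, -a, by rw [Subring.coe_neg, map_neg, ha, neg_mul]⟩ }
    have hS : algSub σ D ≤ S' := by
      refine Subring.closure_le.mpr ?_
      rintro _ (⟨x, rfl⟩ | ⟨a, rfl⟩)
      · obtain ⟨⟨y, ⟨_, m, rfl⟩⟩, hy⟩ := IsLocalization.surj (Submonoid.powers r) x
        refine ⟨m, ⟨res inf_le_left y, res_mem_algSub σ y⟩, ?_⟩
        have hy' : x * res hDU r ^ m = res hDU y := by rw [← map_pow]; exact hy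
        show res _ (res inf_le_left y) = res inf_le_left x * _
        rw [res_res, ← res_res hDU (inf_le_left : D ⊓ frameOpen g ≤ D) y, ← hy', map_mul, map_pow, res_res]
      · have hbo : g ⁻¹ᵁ D = X'.basicOpen ((g.app U.1).hom r) := g.preimage_basicOpen r
        haveI := hV.isLocalization_of_eq_basicOpen ((g.app U.1).hom r) (homOfLE (g.preimage_mono hDU)) hbo
        letI := (X'.presheaf.map (homOfLE (g.preimage_mono hDU)).op).hom.toAlgebra
        obtain ⟨⟨y, ⟨_, m, rfl⟩⟩, hy⟩ :=
          IsLocalization.surj (Submonoid.powers ((g.app U.1).hom r)) a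
        refine ⟨m * σ.M, ⟨σ.NF U.1 y, NF_mem_algSub σ y⟩, ?_⟩
        have hy' : a * (g.app D).hom (res hDU r) ^ m = res (g.preimage_mono hDU) y := by
          rw [← app_res hDU r, ← map_pow]
          exact hy
        show res _ (σ.NF U.1 y) = σ.NF D a * _
        rw [σ.res_NF hDU, ← hy', σ.NF_mul, ← map_pow, σ.NF_app, map_pow, res_res, ← pow_mul]
    obtain ⟨k, a, ha⟩ := hS hb
    refine ⟨⟨a, r' ^ k, k, rfl⟩, Subtype.ext ?_⟩
    rw [Subring.coe_mul, halg, halg, SubmonoidClass.coe_pow, map_pow, ha]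
    show b * res (inf_le_inf_right _ hDU) (res inf_le_left r) ^ k = _
    rw [res_res]
  · intro x y hxy
    refine ⟨⟨r', 1, pow_one r'⟩, Subtype.ext (sub_eq_zero.mp ?_)⟩
    have h0 : res (inf_le_inf_right _ hDU) ((x : Γ(X, U.1 ⊓ frameOpen g)) - (y : Γ(X, U.1 ⊓ frameOpen g))) = 0 := by
      rw [map_sub, ← halg, ← halg, hxy, sub_self]
    rw [Subring.coe_mul, Subring.coe_mul, ← mul_sub]
    refine (basicOpen_eq_bot_iff _).mp (eq_bot_iff.mpr fun z hz => ?_)
    rw [Scheme.basicOpen_mul] at hz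
    have hzr : z ∈ D := by
      have h1 : z ∈ X.basicOpen (res (inf_le_left : U.1 ⊓ frameOpen g ≤ U.1) r) := hz.1
      rw [Scheme.basicOpen_res] at h1
      exact h1.2
    have h2 : z ∈ X.basicOpen (res (inf_le_inf_right (frameOpen g) hDU) ((x : Γ(X, U.1 ⊓ frameOpen g)) - (y : Γ(X, U.1 ⊓ frameOpen g)))) := by
      rw [Scheme.basicOpen_res]
      exact ⟨⟨hzr, (X.basicOpen_le _ hz.2).2⟩, hz.2⟩
    rw [h0, Scheme.basicOpen_zero] at h2
    exact h2

end GrothLib.FinModel8
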