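import Groth.Agent.Lib.RelSpec.OfAffine

/-!
# The affine morphism of a coequifibered algebra on the affine opens, with its rings of sections
-/

universe u

set_option autoImplicit false
set_option backward.isDefEq.respectTransparency false

open CategoryTheory AlgebraicGeometry TopologicalSpace Limits Opposite

noncomputable section

namespace GrothLib.FinModel8

open GrothLib.RelSpec (aff appLE_res_aux appLE_app_aux)

variable {S : Scheme.{u}}

/-- A coequifibered algebra on the affine opens is the algebra of sections of an affine morphism. -/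
theorem exists_affineHom_sections (F : S.AffineZariskiSiteᵒᵖ ⥤ CommRingCat.{u})
    (α : (aff S).op ⋙ S.presheaf ⟶ F) (H : α.Coequifibered) :
    ∃ (Z : Scheme.{u}) (h : Z ⟶ S) (_ : IsAffineHom h)
      (ψ : ∀ U : S.AffineZariskiSite, Γ(Z, h ⁻¹ᵁ U.1) ⟶ F.obj (op U)),
      (∀ U, IsIso (ψ U)) ∧
      (∀ U, h.app U.1 ≫ ψ U = α.app (op U)) ∧
      ∀ {U V : S.AffineZariskiSite} (g : V ⟶ U),
        Z.presheaf.map ((TopologicalSpace.Opens.map h.base).map ((aff S).map g)).op ≫ ψ V =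
          ψ U ≫ F.map g.op := by
  let d := Scheme.AffineZariskiSite.relativeGluingData H
  haveI : (d.functor ⋙ Scheme.forget).IsLocallyDirected :=
    Scheme.Cover.RelativeGluingData.instIsLocallyDirectedI₀CompFunctorForgetOfIsThin ..
  let f : d.glued ⟶ S := d.toBase
  let ιU : ∀ U : S.AffineZariskiSite, Spec (F.obj (op U)) ⟶ d.glued := fun U => d.cover.f U
  have hopen : ∀ U, IsOpenImmersion (ιU U) := fun U => d.cover.map_prop U
  have hpre : ∀ U : S.AffineZariskiSite, f ⁻¹ᵁ U.1 = (ιU U).opensRange := fun U => by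
    simpa using! d.toBase_preimage_eq_opensRange_ι U
  have hle : ∀ U : S.AffineZariskiSite, (⊤ : (Spec (F.obj (op U))).Opens) ≤ ιU U ⁻¹ᵁ f ⁻¹ᵁ U.1 :=
    fun U x _ => show ιU U x ∈ f ⁻¹ᵁ U.1 by rw [hpre U]; exact ⟨x, rfl⟩
  haveI haff : IsAffineHom f := by
    refine ⟨fun V hV => ?_⟩
    rw [hpre ⟨V, hV⟩]
    haveI := hopen ⟨V, hV⟩
    exact isAffineOpen_opensRange (ιU ⟨V, hV⟩)
  let ψ : ∀ U : S.AffineZariskiSite, Γ(d.glued, f ⁻¹ᵁ U.1) ⟶ F.obj (op U) := fun U =>
    (ιU U).appLE (f ⁻¹ᵁ U.1) ⊤ (hle U) ≫ (Scheme.ΓSpecIso _).hom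
  have hψ : ∀ U, IsIso (ψ U) := by
    intro U
    haveI := hopen U
    have hW : f ⁻¹ᵁ U.1 = ιU U ''ᵁ ⊤ := by rw [hpre U, Scheme.Hom.image_top_eq_opensRange]
    haveI : IsIso ((ιU U).appLE (f ⁻¹ᵁ U.1) ⊤ (hle U)) := by
      have e1 : (ιU U).appLE (f ⁻¹ᵁ U.1) ⊤ (hle U) =
          d.glued.presheaf.map (eqToHom hW.symm).op ≫
            (ιU U).appLE (ιU U ''ᵁ ⊤) ⊤ (by rw [Scheme.Hom.preimage_image_eq]) :=
        ((ιU U).map_appLE _ _).symm
      rw [e1, ← Scheme.Hom.appIso_hom']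
      infer_instance
    exact IsIso.comp_isIso
  have hnat : ∀ {U V : S.AffineZariskiSite} (g : V ⟶ U),
      d.glued.presheaf.map ((TopologicalSpace.Opens.map f.base).map ((aff S).map g)).op ≫ ψ V =
        ψ U ≫ F.map g.op := by
    intro U V g
    exact appLE_res_aux (ιU U) (ιU V) _ (colimit.w d.functor g) _ (hle U) (hle V)
  have hc : ∀ U : S.AffineZariskiSite, f.app U.1 ≫ ψ U = α.app (op U) := by
    intro U
    have hc' : ιU U ≫ f = Spec.map (α.app (op U)) ≫ U.2.fromSpec := by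
      refine (d.ι_toBase U).trans ?_
      change (Spec.map (α.app (op U)) ≫ U.2.isoSpec.inv) ≫ U.1.ι = _
      rw [Category.assoc, U.2.isoSpec_inv_ι]
    exact appLE_app_aux U.2 (ιU U) f _ hc' (hle U)
  exact ⟨d.glued, f, haff, ψ, hψ, hc, hnat⟩

end GrothLib.FinModel8
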