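import Groth.Agent.Lib.FinModel8.Model
import Groth.Agent.Lib.Ample.RelAmple
import Groth.Agent.Lib.Ample.Functorial

/-!
# A finite birational model on which ampleness descends
-/

universe u

set_option maxHeartbeats 800000
set_option backward.isDefEq.respectTransparency false

open AlgebraicGeometry CategoryTheory CategoryTheory.Limits TopologicalSpace Opposite
open GrothLib.Ample GrothLib.InvExt GrothLib.NormAmple

noncomputable section

namespace GrothLib.FinModel8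

variable {X X' : Scheme.{u}} {g : X' ⟶ X} [IsNoetherian X] [IsReduced X] [IsFinite g] (σ : FrameSys g)

theorem exists_NF_ext {W : X.Opens}
    (hW : ∀ x ∈ W, (IsDomain (X.presheaf.stalk x) ∧ IsIntegrallyClosed (X.presheaf.stalk x)) ∨ x ∈ frameOpen g)
    {U : X.Opens} (hUW : U ≤ W) (a : Γ(X', g ⁻¹ᵁ U)) : ∃ s : Γ(X, U), res inf_le_left s = σ.NF U a := by
  have hloc : ∀ y : U, ∃ (V : X.Opens) (hV : V ≤ U) (s : Γ(X, V)), y.1 ∈ V ∧
      res inf_le_left s = res (inf_le_inf_right _ hV) (σ.NF U a) := by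
    intro y
    rcases hW y.1 (hUW y.2) with ⟨hd, hn⟩ | hF
    · obtain ⟨V, hV, s, h1, h2, -⟩ := σ.exists_extend_normal a y.2 hd hn
      exact ⟨V, hV, s, h1, h2⟩
    · exact ⟨U ⊓ frameOpen g, inf_le_left, σ.NF U a, ⟨y.2, hF⟩, rfl⟩
  choose V hV s hyV hs using hloc
  obtain ⟨t, ht, -⟩ := TopCat.Sheaf.existsUnique_gluing' X.sheaf V U (fun y => homOfLE (hV y))
    (fun y hy => Opens.mem_iSup.mpr ⟨⟨y, hy⟩, hyV ⟨y, hy⟩⟩) s fun i j => by
      show res (inf_le_left : V i ⊓ V j ≤ _) (s i) = res inf_le_right (s j)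
      refine eq_of_ev fun η hη => ?_
      have hF := gen_mem_frameOpen (g := g) η
      have h1 := congrArg (ev η (V i ⊓ frameOpen g) ⟨hη.1, hF⟩) (hs i)
      have h2 := congrArg (ev η (V j ⊓ frameOpen g) ⟨hη.2, hF⟩) (hs j)
      rw [ev_res, ev_res] at h1 h2
      rw [ev_res, ev_res]
      exact h1.trans h2.symm
  let t' : Γ(X, U) := t
  refine ⟨t', eq_of_ev fun η hη => ?_⟩
  have h1 := congrArg (ev η (V ⟨η.1, hη.1⟩ ⊓ frameOpen g) ⟨hyV _, hη.2⟩) (hs ⟨η.1, hη.1⟩)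
  rw [← show res (hV _) t' = s ⟨η.1, hη.1⟩ from ht _] at h1
  rw [ev_res, ev_res, ev_res] at h1
  rw [ev_res]
  exact h1

theorem Model.isIso_restrict {σ : FrameSys g} (m : Model σ) (O : X.Opens)
    (h : ∀ U : X.Opens, U ≤ O → ∀ a : Γ(X', g ⁻¹ᵁ U), ∃ s : Γ(X, U), res inf_le_left s = σ.NF U a) :
    IsIso (m.h ∣_ O) := by
  haveI := m.aff
  choose U hU hxU hUO using fun x : O => exists_isAffineOpen_mem_and_subset (x := x.1) (U := O) x.2
  refine IsZariskiLocalAtTarget.of_iSup_eq_top (P := MorphismProperty.isomorphisms Scheme)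
    (fun x : O => O.ι ⁻¹ᵁ U x) (eq_top_iff.mpr fun x _ => Opens.mem_iSup.mpr ⟨x, hxU x⟩) fun x => ?_
  have h1 : IsIso (m.h ∣_ U x) :=
    (isIso_morphismRestrict_iff_isIso_app m.h (hU x)).mpr (m.isIso_app (hU x) (h _ (hUO x)))
  have e : O.ι ''ᵁ (O.ι ⁻¹ᵁ U x) = U x := by
    rw [Scheme.Hom.image_preimage_eq_opensRange_inf, Scheme.Opens.opensRange_ι]
    exact inf_eq_right.mpr (hUO x)
  rw [(MorphismProperty.isomorphisms Scheme).arrow_mk_iso_iff (morphismRestrictRestrict m.h O _), e]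
  exact h1

theorem Model.dense_preimage {σ : FrameSys g} (m : Model σ) :
    Dense ((m.h ⁻¹ᵁ frameOpen g : m.Z.Opens) : Set m.Z) := by
  haveI := m.aff
  haveI := m.isReduced
  refine dense_iff_inter_open.mpr fun O hO ⟨z, hz⟩ => ?_
  obtain ⟨U, hU, hzU, -⟩ := exists_isAffineOpen_mem_and_subset (x := m.h z) (U := ⊤) trivial
  obtain ⟨s, hsO, hzs⟩ := (hU.preimage m.h).exists_basicOpen_le (V := ⟨O, hO⟩) ⟨z, hz⟩ hzU
  by_contra hne
  have hs0 : s ≠ 0 := fun h => by rw [h, Scheme.basicOpen_zero] at hzs; exact hzs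
  refine hs0 (m.inj U hU ?_)
  rw [map_zero]
  refine eq_of_ev fun η hη => ?_
  rw [map_zero]
  obtain ⟨D, hD, hηD, hDle⟩ := exists_isAffineOpen_mem_and_subset (x := η.1) (U := U ⊓ frameOpen g) hη
  have hDU : D ≤ U := fun x hx => (hDle hx).1
  have h0 : res (m.h.preimage_mono hDU) s = 0 := by
    refine (basicOpen_eq_bot_iff _).mp (eq_bot_iff.mpr fun y hy => ?_)
    rw [Scheme.basicOpen_res] at hy
    exact hne ⟨y, hsO hy.2, (hDle hy.1).2⟩
  have h1 := congrArg (m.θ D hD) h0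
  rw [map_zero, m.θ_res U D hU hD hDU] at h1
  have h2 := congrArg (ev η (D ⊓ frameOpen g) ⟨hηD, hη.2⟩) h1
  rwa [map_zero, ev_res] at h2

theorem exists_model_descending {Y : Scheme.{u}} [IsAffine Y] (f : X ⟶ Y) [QuasiCompact f] [Surjective g]
    (W : X.Opens)
    (hW : ∀ x ∈ W, (IsDomain (X.presheaf.stalk x) ∧ IsIntegrallyClosed (X.presheaf.stalk x)) ∨ x ∈ frameOpen g) :
    ∃ (Z : Scheme.{u}) (_ : IsReduced Z) (h : Z ⟶ X) (_ : IsFinite h),
      IsIso (h ∣_ W) ∧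
        (∃ V : X.Opens, Dense (V : Set X) ∧ Dense ((h ⁻¹ᵁ V : Z.Opens) : Set Z) ∧ IsIso (h ∣_ V)) ∧
        ∀ L : X.Modules, PicF.IsInvertible L →
          RelAmple.IsRelAmple (g ≫ f) ((Scheme.Modules.pullback g).obj L) →
            RelAmple.IsRelAmple (h ≫ f) ((Scheme.Modules.pullback h).obj L) := by
  obtain ⟨σ⟩ := exists_frameSys (g := g)
  obtain ⟨m⟩ := exists_model σ
  haveI := m.isFinite
  refine ⟨m.Z, m.isReduced, m.h, m.isFinite, m.isIso_restrict W fun U hU a => exists_NF_ext σ hW hU a,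
    ⟨frameOpen g, ?_, m.dense_preimage,
      m.isIso_restrict _ fun U hU a => ⟨res (le_inf le_rfl hU) (σ.NF U a), ?_⟩⟩, fun L hL h => ?_⟩
  · refine dense_iff_inter_open.mpr fun O hO ⟨x, hx⟩ => ?_
    obtain ⟨η, hη⟩ := exists_gen_mem (W := ⟨O, hO⟩) hx
    exact ⟨η.1, hη, gen_mem_frameOpen η⟩
  · rw [res_res, res_self]
  · have h1 := h.2 ⟨⊤, isAffineOpen_top Y⟩
    rw [GrothLib.Ample.isAmple_restrict_top_iff _ ((g ≫ f).preimage_top)] at h1
    obtain ⟨c, ⟨d⟩⟩ := exists_cocycle hL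
    obtain ⟨d'⟩ := c.nonempty_pullback_iso g d
    obtain ⟨dh⟩ := c.nonempty_pullback_iso m.h d
    haveI : CompactSpace X := IsNoetherian.toCompactSpace
    haveI : CompactSpace m.Z := QuasiCompact.compactSpace_of_compactSpace m.h
    have hA : CohB1.IsAmple ((Scheme.Modules.pullback m.h).obj L) :=
      ((c.comap m.h).isAmple_iff dh).mpr ⟨inferInstance, m.isAmp_comap (((c.comap g).isAmple_iff d').mp h1).2⟩
    refine GrothLib.Ample.isRelAmple_of_cover fun y => ⟨⊤, trivial, isAffineOpen_top Y, ?_⟩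
    rw [GrothLib.Ample.isAmple_restrict_top_iff _ (m.h ≫ f).preimage_top]
    exact hA

end GrothLib.FinModel8
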