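import Groth.Agent.Lib.FinModel8.Algebras
import Groth.Agent.Lib.FinModel8.Alg
import Mathlib.AlgebraicGeometry.ResidueField
import Mathlib.FieldTheory.IsAlgClosed.AlgebraicClosure

/-!
# The finite model of a scheme cut out by the norms
-/

universe u

set_option maxHeartbeats 800000
set_option backward.isDefEq.respectTransparency false

open AlgebraicGeometry CategoryTheory CategoryTheory.Limits TopologicalSpace Opposite
open GrothLib.Ample GrothLib.InvExt GrothLib.NormAmple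

noncomputable section

namespace GrothLib.FinModel8

variable {X X' : Scheme.{u}} {g : X' ⟶ X}

/-- The finite model. -/
structure Model (σ : FrameSys g) where
  /-- the scheme -/
  Z : Scheme.{u}
  /-- the projection -/
  h : Z ⟶ X
  aff : IsAffineHom h
  /-- sections as functions on the frame locus -/
  θ : ∀ U : X.Opens, IsAffineOpen U → (Γ(Z, h ⁻¹ᵁ U) →+* Γ(X, U ⊓ frameOpen g))
  inj : ∀ U hU, Function.Injective (θ U hU)
  mem_range : ∀ U hU x, x ∈ algSub σ U ↔ ∃ t, θ U hU t = x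
  θ_app : ∀ U hU r, θ U hU ((h.app U).hom r) = res inf_le_left r
  θ_res : ∀ (U V : X.Opens) hU hV (hVU : V ≤ U) t,
    θ V hV (res (h.preimage_mono hVU) t) = res (inf_le_inf_right _ hVU) (θ U hU t)

variable (X) in
/-- Generic points. -/
def Gen : Type u := {η : X // ∀ z : X, z ⤳ η → z = η}

instance [IsNoetherian X] : Finite (Gen X) := by
  have hfin := TopologicalSpace.NoetherianSpace.finite_irreducibleComponents (α := X)
  haveI := hfin.to_subtype
  have hmem : ∀ η : Gen X, closure {η.1} ∈ irreducibleComponents (X : Type u) := fun η => by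
    obtain ⟨ζ, hζ⟩ := QuasiSober.sober (isIrreducible_irreducibleComponent (x := η.1))
      isClosed_irreducibleComponent
    have h1 := η.2 ζ (hζ.specializes mem_irreducibleComponent)
    rw [show closure {η.1} = irreducibleComponent η.1 from h1 ▸ hζ]
    exact irreducibleComponent_mem_irreducibleComponents _
  refine Finite.of_injective (fun η : Gen X => (⟨closure {η.1}, hmem η⟩ : irreducibleComponents (X : Type u)))
    fun η η' e => Subtype.ext ?_
  exact IsGenericPoint.eq (S := closure {η.1}) isGenericPoint_closure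
    (by rw [show closure {η.1} = closure {η'.1} from congrArg Subtype.val e]; exact isGenericPoint_closure)

theorem exists_gen_mem {W : X.Opens} {x : X} (hx : x ∈ W) : ∃ η : Gen X, η.1 ∈ W := by
  obtain ⟨η, hη⟩ := QuasiSober.sober (isIrreducible_irreducibleComponent (x := x)) isClosed_irreducibleComponent
  refine ⟨⟨η, fun z hz => ?_⟩, (hη.specializes mem_irreducibleComponent).mem_open W.2 hx⟩
  have hsub : irreducibleComponent x ⊆ closure {z} := by
    rw [← hη.def]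
    exact hz.closure_subset
  have := eq_irreducibleComponent (isIrreducible_singleton.closure).2 hsub
  exact IsGenericPoint.eq (show IsGenericPoint z (irreducibleComponent x) from this) hη

theorem gen_mem_frameOpen [IsLocallyNoetherian X] [IsReduced X] [IsFinite g] (η : Gen X) : η.1 ∈ frameOpen g := by
  refine mem_frameOpen_of_free ?_
  letI := (GrpdQuot.isField_stalk_of_generic η.1 η.2).toField
  exact Module.Free.of_divisionRing (X.presheaf.stalk η.1) _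

/-- The value at a generic point, in an algebraically closed field. -/
def ev (η : Gen X) (W : X.Opens) (h : η.1 ∈ W) : Γ(X, W) →+* AlgebraicClosure (X.residueField η.1) :=
  (algebraMap (X.residueField η.1) (AlgebraicClosure (X.residueField η.1))).comp (X.evaluation W η.1 h).hom

theorem ev_res (η : Gen X) {W W' : X.Opens} (hle : W' ≤ W) (h : η.1 ∈ W') (s : Γ(X, W)) :
    ev η W' h (res hle s) = ev η W (hle h) s := by
  refine congrArg (algebraMap (X.residueField η.1) _) ?_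
  show (X.residue η.1).hom ((X.presheaf.germ W' η.1 h).hom (res hle s)) = _
  erw [X.presheaf.germ_res_apply]
  rfl

theorem eq_of_ev [IsReduced X] {W : X.Opens} {s t : Γ(X, W)}
    (h : ∀ (η : Gen X) (hη : η.1 ∈ W), ev η W hη s = ev η W hη t) : s = t := by
  refine sub_eq_zero.mp ((basicOpen_eq_bot_iff _).mp ?_)
  by_contra hne
  obtain ⟨x, hx⟩ := (Opens.ne_bot_iff_nonempty _).mp hne
  obtain ⟨η, hη⟩ := exists_gen_mem hx
  have h1 := (algebraMap (X.residueField η.1) (AlgebraicClosure (X.residueField η.1))).injective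
    (h η (X.basicOpen_le _ hη))
  have h2 : X.evaluation W η.1 (X.basicOpen_le _ hη) (s - t) = 0 := by
    rw [map_sub, sub_eq_zero]
    exact h1
  exact (X.evaluation_eq_zero_iff_notMem_basicOpen _ _ _).mp h2 hη

theorem exists_model [IsReduced X] [IsAffineHom g] (σ : FrameSys g) : Nonempty (Model σ) := by
  obtain ⟨Z, h, haff, ψ, hψ, hc, hnat⟩ :=
    exists_affineHom_sections (diag σ) (diagMap σ) (coequifibered_diagMap σ)
  refine ⟨⟨Z, h, haff, fun U hU => (algSub σ U).subtype.comp (ψ ⟨U, hU⟩).hom, fun U hU => ?_, fun U hU x => ?_,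
    fun U hU r => ?_, fun U V hU hV hVU t => ?_⟩⟩
  · haveI := hψ ⟨U, hU⟩
    exact Subtype.val_injective.comp (ConcreteCategory.bijective_of_isIso (ψ ⟨U, hU⟩)).1
  · haveI := hψ ⟨U, hU⟩
    refine ⟨fun hx => ?_, fun ⟨t, ht⟩ => ht ▸ ((ψ ⟨U, hU⟩).hom t).2⟩
    obtain ⟨t, ht⟩ := (ConcreteCategory.bijective_of_isIso (ψ ⟨U, hU⟩)).2 (⟨x, hx⟩ : algSub σ U)
    exact ⟨t, congrArg Subtype.val ht⟩
  · exact congrArg Subtype.val (ConcreteCategory.congr_hom (hc ⟨U, hU⟩) r)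
  · let θ₀ : ∀ A : X.AffineZariskiSite, Γ(Z, h ⁻¹ᵁ A.1) →+* Γ(X, A.1 ⊓ frameOpen g) := fun A =>
      (algSub σ A.1).subtype.comp (ψ A).hom
    have key : ∀ (A B : X.AffineZariskiSite) (hle : B ≤ A) (s : Γ(Z, h ⁻¹ᵁ A.1)),
        θ₀ B (res (h.preimage_mono (Scheme.AffineZariskiSite.toOpens_mono hle)) s) =
          res (inf_le_inf_right _ (Scheme.AffineZariskiSite.toOpens_mono hle)) (θ₀ A s) := fun A B hle s =>
      congrArg Subtype.val (ConcreteCategory.congr_hom (hnat (homOfLE hle)) s)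
    refine eq_of_ev fun η hη => ?_
    obtain ⟨r, r', e, hηr⟩ := exists_basicOpen_le_affine_inter hU hV η.1 ⟨hVU hη.1, hη.1⟩
    let AU : X.AffineZariskiSite := ⟨U, hU⟩
    let AV : X.AffineZariskiSite := ⟨V, hV⟩
    let AD : X.AffineZariskiSite := AU.basicOpen r
    have hDU : AD ≤ AU := AU.basicOpen_le r
    have hDV : AD ≤ AV := ⟨r', e.symm⟩
    have hηD : η.1 ∈ X.basicOpen r ⊓ frameOpen g := ⟨hηr, hη.2⟩
    have k1 := congrArg (ev η (AD.1 ⊓ frameOpen g) hηD) (key AV AD hDV (res (h.preimage_mono hVU) t))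
    have k2 := congrArg (ev η (AD.1 ⊓ frameOpen g) hηD) (key AU AD hDU t)
    erw [ev_res, res_res] at k1
    erw [ev_res] at k2
    erw [ev_res]
    exact k1.symm.trans k2

theorem exists_rep [IsFinite g] (σ : FrameSys g) (U : X.Opens) (k : σ.κ) [Nontrivial Γ(X, U ⊓ σ.T k)]
    {L : Type u} [Field L] (ι : Γ(X, U ⊓ σ.T k) →+* L) :
    letI := (g.app U).hom.toAlgebra
    letI := (ι.comp (res (inf_le_left : U ⊓ σ.T k ≤ U))).toAlgebra
    ∃ Φ : Γ(X', g ⁻¹ᵁ U) →ₐ[Γ(X, U)] Matrix (Fin (σ.n k)) (Fin (σ.n k)) L,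
      ∀ a, ι (res (inf_le_inf_left U (σ.T_le k)) (σ.NF U a)) = (Φ a).det ^ (σ.M / σ.n k) := by
  classical
  letI := (g.app U).hom.toAlgebra
  letI := (ι.comp (res (inf_le_left : U ⊓ σ.T k ≤ U))).toAlgebra
  let D := U ⊓ σ.T k
  have hDU : D ≤ U := inf_le_left
  letI := (g.app D).hom.toAlgebra
  let b := (σ.isFrame k).basis D inf_le_right
  let Φ₀ : Γ(X', g ⁻¹ᵁ U) →+* Matrix (Fin (σ.n k)) (Fin (σ.n k)) L :=
    (ι.mapMatrix).comp ((Algebra.leftMulMatrix b).toRingHom.comp (res (g.preimage_mono hDU)))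
  refine ⟨{ Φ₀ with commutes' := fun x => ?_ }, fun a => ?_⟩
  · show ι.mapMatrix (Algebra.leftMulMatrix b (res (g.preimage_mono hDU) ((g.app U).hom x))) = _
    rw [app_res hDU, show (g.app D).hom (res hDU x) = algebraMap Γ(X, D) _ (res hDU x) from rfl,
      AlgHom.commutes, Matrix.algebraMap_eq_diagonal, Matrix.algebraMap_eq_diagonal]
    simp only [RingHom.mapMatrix_apply]
    rw [Matrix.diagonal_map (map_zero ι)]
    rfl
  · show _ = (ι.mapMatrix (Algebra.leftMulMatrix b (res (g.preimage_mono hDU) a))).det ^ _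
    rw [← RingHom.map_det, ← Algebra.norm_eq_matrix_det b, ← map_pow]
    have e := σ.NF_spec U a k
    rw [nrm, Module.finrank_eq_card_basis b, Fintype.card_fin] at e
    rw [← e]

theorem exists_ev_NF [IsFinite g] (σ : FrameSys g) (η : Gen X) (U : X.Opens) (h : η.1 ∈ U ⊓ frameOpen g) :
    letI := (g.app U).hom.toAlgebra
    letI := (ev η U h.1).toAlgebra
    ∃ (n k : ℕ) (Φ : Γ(X', g ⁻¹ᵁ U) →ₐ[Γ(X, U)]
        Matrix (Fin n) (Fin n) (AlgebraicClosure (X.residueField η.1))),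
      0 < n ∧ 0 < k ∧ ∀ a, ev η (U ⊓ frameOpen g) h (σ.NF U a) = (Φ a).det ^ k := by
  obtain ⟨k, hk⟩ := Opens.mem_iSup.mp (σ.inf_cover U h)
  haveI : Nontrivial Γ(X, U ⊓ σ.T k) := nontrivial_of_mem hk
  have hr := exists_rep σ U k (ev η (U ⊓ σ.T k) hk)
  have e : (ev η (U ⊓ σ.T k) hk).comp (res (inf_le_left : U ⊓ σ.T k ≤ U)) = ev η U h.1 :=
    RingHom.ext fun x => ev_res η inf_le_left hk x
  rw [e] at hr
  obtain ⟨Φ, hΦ⟩ := hr
  refine ⟨σ.n k, σ.M / σ.n k, Φ, σ.n_pos k, Nat.div_pos (Nat.le_of_dvd σ.M_pos (σ.dvd k)) (σ.n_pos k),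
    fun a => ?_⟩
  rw [← hΦ a, ev_res]

namespace Model

variable {σ : FrameSys g} (m : Model σ)

theorem sec_ext [IsReduced X] {W : X.Opens} {s t : Γ(m.Z, m.h ⁻¹ᵁ W)}
    (h : ∀ (V : X.Opens) (hV : IsAffineOpen V) (hVW : V ≤ W),
      m.θ V hV (res (m.h.preimage_mono hVW) s) = m.θ V hV (res (m.h.preimage_mono hVW) t)) : s = t := by
  choose V hV hpV hVW using fun p : W => exists_isAffineOpen_mem_and_subset (x := p.1) (U := W) p.2
  refine TopCat.Sheaf.eq_of_locally_eq' m.Z.sheaf (fun p => m.h ⁻¹ᵁ V p) (m.h ⁻¹ᵁ W)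
    (fun p => homOfLE (m.h.preimage_mono (hVW p)))
    (fun z hz => Opens.mem_iSup.mpr ⟨⟨m.h z, hz⟩, hpV ⟨m.h z, hz⟩⟩) s t fun p => ?_
  exact m.inj _ (hV p) (h _ (hV p) (hVW p))

theorem isReduced [IsReduced X] : IsReduced m.Z := by
  haveI := m.aff
  choose U hU hzU _ using fun z : m.Z =>
    exists_isAffineOpen_mem_and_subset (x := m.h z) (U := ⊤) trivial
  haveI : ∀ z, IsReduced (m.h ⁻¹ᵁ U z : Scheme.{u}) := fun z => by
    haveI : IsAffine (m.h ⁻¹ᵁ U z : Scheme.{u}) := (hU z).preimage m.h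
    haveI : _root_.IsReduced Γ((m.h ⁻¹ᵁ U z : Scheme.{u}), ⊤) := by
      haveI : _root_.IsReduced Γ(m.Z, m.h ⁻¹ᵁ U z) :=
        isReduced_of_injective _ (m.inj _ (hU z))
      exact isReduced_of_injective (m.h ⁻¹ᵁ U z).topIso.hom.hom
        (ConcreteCategory.bijective_of_isIso (m.h ⁻¹ᵁ U z).topIso.hom).1
    exact isReduced_of_isAffine_isReduced _
  let 𝒰 : m.Z.OpenCover := m.Z.openCoverOfIsOpenCover (fun z => m.h ⁻¹ᵁ U z)
    (eq_top_iff.mpr fun z _ => Opens.mem_iSup.mpr ⟨z, hzU z⟩)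
  haveI : ∀ i, IsReduced (𝒰.X i) := fun z => inferInstanceAs (IsReduced (m.h ⁻¹ᵁ U z : Scheme.{u}))
  exact AlgebraicGeometry.IsReduced.of_openCover _ 𝒰

theorem finite_app [IsNoetherian X] [IsReduced X] [IsFinite g] {U : X.Opens} (hU : IsAffineOpen U) :
    (m.h.app U).hom.Finite := by
  classical
  haveI : IsNoetherianRing Γ(X, U) := IsLocallyNoetherian.component_noetherian ⟨U, hU⟩
  letI : Algebra Γ(X, U) Γ(m.Z, m.h ⁻¹ᵁ U) := (m.h.app U).hom.toAlgebra
  letI : Algebra Γ(X, U) Γ(X', g ⁻¹ᵁ U) := (g.app U).hom.toAlgebra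
  haveI : Module.Finite Γ(X, U) Γ(X', g ⁻¹ᵁ U) := g.finite_app U hU
  let G := {η : Gen X // η.1 ∈ U}
  let L := fun η : G => AlgebraicClosure (X.residueField η.1.1)
  letI : ∀ η : G, Algebra Γ(X, U) (L η) := fun η => (ev η.1 U η.2).toAlgebra
  choose T hTfin hT using fun η : G => exists_det_mem Γ(X, U) Γ(X', g ⁻¹ᵁ U) (L η)
  have hmem : ∀ (η : G) (t : Γ(m.Z, m.h ⁻¹ᵁ U)),
      ev η.1 (U ⊓ frameOpen g) ⟨η.2, gen_mem_frameOpen η.1⟩ (m.θ U hU t) ∈ T η := by
    intro η t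
    have hsub : algSub σ U ≤ (T η).toSubring.comap (ev η.1 (U ⊓ frameOpen g) ⟨η.2, gen_mem_frameOpen η.1⟩) := by
      refine Subring.closure_le.mpr ?_
      rintro _ (⟨r, rfl⟩ | ⟨a, rfl⟩) <;> rw [SetLike.mem_coe, Subring.mem_comap]
      · rw [ev_res]
        exact (T η).algebraMap_mem r
      · obtain ⟨n, k, Φ, -, -, hΦ⟩ := exists_ev_NF σ η.1 U ⟨η.2, gen_mem_frameOpen η.1⟩
        rw [hΦ a]
        exact (T η).toSubring.pow_mem (hT η n Φ a) k
    exact hsub ((m.mem_range U hU _).mpr ⟨t, rfl⟩)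
  let F : Γ(m.Z, m.h ⁻¹ᵁ U) →ₗ[Γ(X, U)] ∀ η : G, T η :=
    { toFun := fun t η => ⟨_, hmem η t⟩
      map_add' := fun s t => funext fun η => Subtype.ext (by simp [map_add])
      map_smul' := fun r t => funext fun η => Subtype.ext (by
        show ev η.1 _ _ (m.θ U hU ((m.h.app U).hom r * t)) = algebraMap _ (L η) r * _
        rw [map_mul, map_mul, m.θ_app, ev_res]
        rfl) }
  have hF : Function.Injective F := fun s t e => m.inj U hU (eq_of_ev fun η hη =>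
    congrArg Subtype.val (congrFun e ⟨η, hη.1⟩))
  haveI : Finite (Gen X) := inferInstance
  haveI : Finite G := Finite.of_injective _ Subtype.val_injective
  haveI := hTfin
  exact Module.Finite.of_injective F hF

theorem isFinite [IsNoetherian X] [IsReduced X] [IsFinite g] : IsFinite m.h :=
  haveI := m.aff
  ⟨fun _ hU => m.finite_app hU⟩

theorem isIso_app [IsReduced X] [IsLocallyNoetherian X] [IsFinite g] {U : X.Opens} (hU : IsAffineOpen U)
    (h : ∀ a : Γ(X', g ⁻¹ᵁ U), ∃ s : Γ(X, U), res inf_le_left s = σ.NF U a) : IsIso (m.h.app U) := by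
  refine (ConcreteCategory.isIso_iff_bijective _).mpr ⟨fun r r' e => ?_, fun t => ?_⟩
  · refine FrameSys.res_frameOpen_injective g U ?_
    rw [← m.θ_app U hU, ← m.θ_app U hU]
    exact congrArg (m.θ U hU) e
  · have hsub : algSub σ U ≤ (res (inf_le_left : U ⊓ frameOpen g ≤ U)).range := by
      refine Subring.closure_le.mpr ?_
      rintro _ (⟨r, rfl⟩ | ⟨a, rfl⟩)
      · exact ⟨r, rfl⟩
      · exact h a
    obtain ⟨r, hr⟩ := hsub ((m.mem_range U hU _).mpr ⟨t, rfl⟩)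
    exact ⟨r, m.inj U hU ((m.θ_app U hU r).trans hr)⟩

theorem exists_N [IsReduced X] (W : X.Opens) (a : Γ(X', g ⁻¹ᵁ W)) :
    ∃ t : Γ(m.Z, m.h ⁻¹ᵁ W), ∀ (V : X.Opens) (hV : IsAffineOpen V) (hVW : V ≤ W),
      m.θ V hV (res (m.h.preimage_mono hVW) t) = σ.NF V (res (g.preimage_mono hVW) a) := by
  choose U hU hpU hUW using fun p : W => exists_isAffineOpen_mem_and_subset (x := p.1) (U := W) p.2
  choose s hs using fun p => (m.mem_range _ (hU p) _).mp (NF_mem_algSub σ (res (g.preimage_mono (hUW p)) a))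
  have hsV : ∀ p (V : X.Opens) (hV : IsAffineOpen V) (hle : V ≤ U p),
      m.θ V hV (res (m.h.preimage_mono hle) (s p)) = σ.NF V (res (g.preimage_mono (hle.trans (hUW p))) a) := by
    intro p V hV hle
    rw [m.θ_res _ _ (hU p) hV hle, hs p, σ.res_NF hle, res_res]
  obtain ⟨t, ht, -⟩ := TopCat.Sheaf.existsUnique_gluing' m.Z.sheaf (fun p => m.h ⁻¹ᵁ U p) (m.h ⁻¹ᵁ W)
    (fun p => homOfLE (m.h.preimage_mono (hUW p)))
    (fun z hz => Opens.mem_iSup.mpr ⟨⟨m.h z, hz⟩, hpU ⟨m.h z, hz⟩⟩) s fun p q => by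
      show res (inf_le_left : m.h ⁻¹ᵁ U p ⊓ m.h ⁻¹ᵁ U q ≤ _) (s p) = res inf_le_right (s q)
      change res (m.h.preimage_mono (inf_le_left : U p ⊓ U q ≤ U p)) (s p) =
        res (m.h.preimage_mono (inf_le_right : U p ⊓ U q ≤ U q)) (s q)
      refine m.sec_ext fun V hV hle => ?_
      rw [res_res, res_res, hsV p V hV (hle.trans inf_le_left), hsV q V hV (hle.trans inf_le_right)]
  let t' : Γ(m.Z, m.h ⁻¹ᵁ W) := t
  refine ⟨t', fun V hV hVW => ?_⟩
  refine eq_of_ev fun η hη => ?_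
  have hηW : η.1 ∈ W := hVW hη.1
  obtain ⟨V', hV', hηV', hV'le⟩ := exists_isAffineOpen_mem_and_subset
    (x := η.1) (U := V ⊓ U ⟨η.1, hηW⟩) ⟨hη.1, hpU ⟨η.1, hηW⟩⟩
  have hmem : η.1 ∈ V' ⊓ frameOpen g := ⟨hηV', hη.2⟩
  have hVle : V' ≤ V := fun x hx => (hV'le hx).1
  have hUle : V' ≤ U ⟨η.1, hηW⟩ := fun x hx => (hV'le hx).2
  have e1 : m.θ V' hV' (res (m.h.preimage_mono hVle) (res (m.h.preimage_mono hVW) t')) =
      σ.NF V' (res (g.preimage_mono hVle) (res (g.preimage_mono hVW) a)) := by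
    rw [res_res, res_res, ← hsV _ V' hV' hUle, ← show res (m.h.preimage_mono (hUW _)) t' =
      s ⟨η.1, hηW⟩ from ht _, res_res]
  rw [m.θ_res V V' hV hV' hVle, ← σ.res_NF hVle] at e1
  have e2 := congrArg (ev η (V' ⊓ frameOpen g) hmem) e1
  rwa [ev_res, ev_res] at e2

/-- The norm. -/
def N [IsReduced X] (W : X.Opens) (a : Γ(X', g ⁻¹ᵁ W)) : Γ(m.Z, m.h ⁻¹ᵁ W) := (m.exists_N W a).choose

theorem θ_N [IsReduced X] (W : X.Opens) (a : Γ(X', g ⁻¹ᵁ W)) (V : X.Opens) (hV : IsAffineOpen V) (hVW : V ≤ W) :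
    m.θ V hV (res (m.h.preimage_mono hVW) (m.N W a)) = σ.NF V (res (g.preimage_mono hVW) a) :=
  (m.exists_N W a).choose_spec V hV hVW

theorem N_mul [IsReduced X] (W : X.Opens) (a b : Γ(X', g ⁻¹ᵁ W)) : m.N W (a * b) = m.N W a * m.N W b :=
  m.sec_ext fun V hV hVW => by
    rw [map_mul, map_mul, m.θ_N _ _ _ _ hVW, m.θ_N _ _ _ _ hVW, m.θ_N _ _ _ _ hVW, map_mul, σ.NF_mul]

theorem N_app [IsReduced X] (W : X.Opens) (r : Γ(X, W)) :
    m.N W ((g.app W).hom r) = (m.h.app W).hom r ^ σ.M :=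
  m.sec_ext fun V hV hVW => by
    rw [m.θ_N _ _ _ _ hVW, map_pow, map_pow, app_res hVW, σ.NF_app, app_res (g := m.h) hVW, m.θ_app]

theorem res_N [IsReduced X] (W W' : X.Opens) (hle : W' ≤ W) (a : Γ(X', g ⁻¹ᵁ W)) :
    res (m.h.preimage_mono hle) (m.N W a) = m.N W' (res (g.preimage_mono hle) a) :=
  m.sec_ext fun V hV hVW => by
    rw [res_res, m.θ_N _ _ _ _ (hVW.trans hle), m.θ_N _ _ _ _ hVW, res_res]

theorem mem_of_forall [IsReduced X] [IsFinite g] (W : X.Opens) (a : Γ(X', g ⁻¹ᵁ W)) (z : m.Z)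
    (hz : m.h z ∈ W) (hfib : ∀ y : X', g y = m.h z → y ∈ X'.basicOpen a) : z ∈ m.Z.basicOpen (m.N W a) := by
  have hcl : IsClosed (g '' ((X'.basicOpen a : Set X')ᶜ)) :=
    g.isClosedMap _ (X'.basicOpen a).2.isClosed_compl
  let W₀ : X.Opens := W ⊓ ⟨_, hcl.isOpen_compl⟩
  have hx₀ : m.h z ∈ W₀ := ⟨hz, fun ⟨y, hy', hyx⟩ => hy' (hfib y hyx)⟩
  have hle : W₀ ≤ W := inf_le_left
  have hsub : g ⁻¹ᵁ W₀ ≤ X'.basicOpen a := by
    intro y hy0
    by_contra hy'
    exact hy0.2 ⟨y, hy', rfl⟩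
  obtain ⟨v, hv⟩ := isUnit_res_of_le a (g.preimage_mono hle) hsub
  have h1 : m.N W₀ ↑v * m.N W₀ ↑v⁻¹ = 1 := by
    rw [← m.N_mul, Units.mul_inv, ← map_one (g.app W₀).hom, m.N_app, map_one, one_pow]
  have h2 := m.Z.basicOpen_of_isUnit (IsUnit.of_mul_eq_one _ h1)
  rw [hv, ← m.res_N W W₀ hle, Scheme.basicOpen_res] at h2
  have h3 : z ∈ m.h ⁻¹ᵁ W₀ := hx₀
  rw [← h2] at h3
  exact h3.2

theorem exists_of_mem [IsNoetherian X] [IsReduced X] [IsFinite g] (W : X.Opens) (a : Γ(X', g ⁻¹ᵁ W))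
    (z : m.Z) (hzN : z ∈ m.Z.basicOpen (m.N W a)) : ∃ y : X', g y = m.h z ∧ y ∈ X'.basicOpen a := by
  classical
  have hzW : m.h z ∈ W := m.Z.basicOpen_le _ hzN
  obtain ⟨U, hU, hzU, hUW⟩ := exists_isAffineOpen_mem_and_subset hzW
  haveI := m.aff
  let aU : Γ(X', g ⁻¹ᵁ U) := res (g.preimage_mono hUW) a
  let s := res (m.h.preimage_mono hUW) (m.N W a)
  have hV := hU.preimage m.h
  let P := hV.primeIdealOf ⟨z, hzU⟩
  have hsP : s ∉ P.asIdeal := by
    intro hs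
    have hz' : z ∈ m.Z.basicOpen s := by rw [Scheme.basicOpen_res]; exact ⟨hzU, hzN⟩
    have := (hV.fromSpec_preimage_basicOpen s).le
    have h1 : hV.fromSpec P ∈ m.Z.basicOpen s := by rw [hV.fromSpec_primeIdealOf]; exact hz'
    exact (this h1) hs
  letI : Algebra Γ(X, U) Γ(m.Z, m.h ⁻¹ᵁ U) := (m.h.app U).hom.toAlgebra
  letI : Algebra Γ(X, U) Γ(X', g ⁻¹ᵁ U) := (g.app U).hom.toAlgebra
  haveI : Module.Finite Γ(X, U) Γ(X', g ⁻¹ᵁ U) := g.finite_app U hU
  haveI : Module.Finite Γ(X, U) Γ(m.Z, m.h ⁻¹ᵁ U) := m.finite_app hU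
  haveI : Algebra.IsIntegral Γ(X, U) Γ(m.Z, m.h ⁻¹ᵁ U) := Algebra.IsIntegral.of_finite _ _
  let G := {η : Gen X // η.1 ∈ U}
  haveI : Finite G := Finite.of_injective _ Subtype.val_injective
  haveI := Fintype.ofFinite G
  let ε₀ := fun η : G => (ev η.1 (U ⊓ frameOpen g) ⟨η.2, gen_mem_frameOpen η.1⟩).comp (m.θ U hU)
  have hker : Finset.univ.inf (fun η => RingHom.ker (ε₀ η)) ≤ P.asIdeal := fun t ht => by
    have ht0 : t = 0 := m.inj U hU <| by
      rw [map_zero]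
      refine eq_of_ev fun η hη => ?_
      rw [map_zero]
      exact (Submodule.mem_finsetInf.mp ht ⟨η, hη.1⟩ (Finset.mem_univ _))
    rw [ht0]
    exact P.asIdeal.zero_mem
  obtain ⟨η, -, hη⟩ := (Ideal.IsPrime.inf_le' P.2).mp hker
  obtain ⟨n, k, Φ, hn, hk, hΦ⟩ := exists_ev_NF σ η.1 U ⟨η.2, gen_mem_frameOpen η.1⟩
  letI : Algebra Γ(X, U) (AlgebraicClosure (X.residueField η.1.1)) := (ev η.1 U η.2).toAlgebra
  let ε : Γ(m.Z, m.h ⁻¹ᵁ U) →ₐ[Γ(X, U)] AlgebraicClosure (X.residueField η.1.1) :=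
    { ε₀ η with
      commutes' := fun r => by
        show ev η.1 _ _ (m.θ U hU ((m.h.app U).hom r)) = _
        rw [m.θ_app, ev_res]
        rfl }
  have he : ε s = (Φ aU).det ^ k := by
    show ev η.1 _ _ (m.θ U hU s) = _
    rw [show m.θ U hU s = σ.NF U aU from m.θ_N W a U hU hUW, hΦ aU]
  haveI := P.2
  obtain ⟨Q, hQ, hQc, haQ⟩ := exists_prime_over_of_det ε P.asIdeal hη Φ aU hn hk hsP he
  have hV' : IsAffineOpen (g ⁻¹ᵁ U) := hU.preimage g
  let y := hV'.fromSpec ⟨Q, hQ⟩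
  have hyU : y ∈ g ⁻¹ᵁ U := hV'.range_fromSpec.subset ⟨_, rfl⟩
  have hpy : hV'.primeIdealOf ⟨y, hyU⟩ = ⟨Q, hQ⟩ :=
    hV'.fromSpec.isOpenEmbedding.injective (hV'.fromSpec_primeIdealOf ⟨y, hyU⟩)
  have hgy : g y = m.h z := by
    have e1 := IsAffineOpen.comap_primeIdealOf_appLE (f := g) U hU (g ⁻¹ᵁ U) hV' le_rfl hyU
    have e2 := IsAffineOpen.comap_primeIdealOf_appLE (f := m.h) U hU (m.h ⁻¹ᵁ U) hV le_rfl hzU
    rw [hpy, ← Scheme.Hom.app_eq_appLE] at e1
    rw [← Scheme.Hom.app_eq_appLE] at e2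
    have e' : hU.primeIdealOf ⟨g y, hyU⟩ = hU.primeIdealOf ⟨m.h z, hzU⟩ := by
      rw [← e1, ← e2]; exact PrimeSpectrum.ext hQc
    have := congrArg hU.fromSpec e'
    rwa [hU.fromSpec_primeIdealOf, hU.fromSpec_primeIdealOf] at this
  have hya : (⟨Q, hQ⟩ : PrimeSpectrum Γ(X', g ⁻¹ᵁ U)) ∈ PrimeSpectrum.basicOpen aU := haQ
  rw [← hV'.fromSpec_preimage_basicOpen, Scheme.basicOpen_res] at hya
  exact ⟨y, hgy, hya.2⟩

/-- Ampleness descends to the model. -/
theorem isAmp_comap [IsNoetherian X] [IsReduced X] [IsFinite g] {c : Cocycle X} (h : (c.comap g).IsAmp) :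
    (c.comap m.h).IsAmp := by
  haveI := m.aff
  haveI : CompactSpace X' := QuasiCompact.compactSpace_of_compactSpace g
  intro p
  obtain ⟨i₀, W, hpW, -, hW⟩ := c.exists_affine_le_D (m.h p)
  obtain ⟨n, a, hfib, haW, -⟩ := (c.comap g).exists_affine_locus_finite h
    (g.finite_preimage_singleton (m.h p)) (U := g ⁻¹ᵁ W)
    (by rintro y hy; show g y ∈ W; rw [Set.mem_singleton_iff.mp hy]; exact hpW)
  have hle : ∀ i, g ⁻¹ᵁ c.D i ≤ (⊤ : X'.Opens) ⊓ g ⁻¹ᵁ c.D i := fun i => le_inf le_top le_rfl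
  let bi : ∀ i, Γ(m.Z, m.h ⁻¹ᵁ c.D i) := fun i => m.N (c.D i) (res (hle i) (a.1 i))
  have hcompat : ∀ i j, res (m.h.preimage_mono (inf_le_left : c.D i ⊓ c.D j ≤ c.D i)) (bi i) =
      (m.h.app (c.D i ⊓ c.D j)).hom (c.G i j inf_le_left inf_le_right) ^ (σ.M * (n + 1)) *
        res (m.h.preimage_mono (inf_le_right : c.D i ⊓ c.D j ≤ c.D j)) (bi j) := by
    intro i j
    show res _ (m.N (c.D i) (res (hle i) (a.1 i))) = _ * res _ (m.N (c.D j) (res (hle j) (a.1 j)))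
    erw [m.res_N (c.D i) _ inf_le_left, m.res_N (c.D j) _ inf_le_right, res_res, res_res]
    have e := (c.comap g).sect_spec a i j (W := g ⁻¹ᵁ (c.D i ⊓ c.D j))
      ((g.preimage_mono inf_le_left).trans (hle i)) ((g.preimage_mono inf_le_right).trans (hle j))
    erw [e]
    rw [m.N_mul]
    congr 1
    rw [← c.appLE_G g i j inf_le_left inf_le_right le_rfl, ← map_pow, ← Scheme.Hom.app_eq_appLE, m.N_app,
      map_pow, ← pow_mul, mul_comm]
  let b : (c.comap m.h).sect (σ.M * (n + 1)) ⊤ := ⟨fun i => res inf_le_right (bi i), by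
    intro i j V hi hj
    have hij : V ≤ m.h ⁻¹ᵁ (c.D i ⊓ c.D j) := le_inf (hi.trans inf_le_right) (hj.trans inf_le_right)
    have e := congrArg (res hij) (hcompat i j)
    rw [map_mul, map_pow, res_res, res_res, Scheme.Hom.app_eq_appLE, res_appLE, c.appLE_G] at e
    rw [res_res, res_res]
    exact e⟩
  have hloc : ∀ (i : c.ι) (y : X'), y ∈ g ⁻¹ᵁ c.D i →
      (y ∈ (c.comap g).locus a ↔ y ∈ X'.basicOpen (res (hle i) (a.1 i))) := by
    intro i y hyi
    rw [(c.comap g).mem_locus_iff a (i := i) hyi, Scheme.basicOpen_res]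
    exact ⟨fun h => ⟨hyi, h⟩, fun h => h.2⟩
  obtain ⟨l, hl⟩ : ∃ l, σ.M * (n + 1) = l + 1 := ⟨_, (Nat.succ_pred_eq_of_pos
    (mul_pos σ.M_pos n.succ_pos)).symm⟩
  refine ⟨l, (c.comap m.h).sectCast hl b, ?_⟩
  rw [(c.comap m.h).locus_sectCast]
  refine ⟨?_, (c.comap m.h).isAffineOpen_locus_of_le _ (hW.preimage m.h) fun z hz => ?_⟩
  · obtain ⟨i, hi⟩ := c.exists_mem (m.h p)
    rw [(c.comap m.h).mem_locus_iff b (i := i) hi, Scheme.basicOpen_res]
    refine ⟨⟨trivial, hi⟩, m.mem_of_forall _ _ p hi fun y hy => ?_⟩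
    exact (hloc i y (by show g y ∈ c.D i; rw [hy]; exact hi)).mp (hfib hy)
  · obtain ⟨i, hi⟩ := c.exists_mem (m.h z)
    rw [(c.comap m.h).mem_locus_iff b (i := i) hi, Scheme.basicOpen_res] at hz
    obtain ⟨y, hy, hya⟩ := m.exists_of_mem _ _ z hz.2
    show m.h z ∈ W
    rw [← hy]
    exact haW ((hloc i y (by show g y ∈ c.D i; rw [hy]; exact hi)).mpr hya)

end Model

end GrothLib.FinModel8
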